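import Mathlib
import Cfsg.Agent.Lib.Stell.Base

/-!
# Existence of the refined configurations
-/

set_option autoImplicit false

namespace H25.St

open Subgroup Cfsg MulAction Matrix MatrixGroups H25.SF
open scoped Pointwise commutatorElement

universe u

section

variable {X : Type*} [Group X] {K : Type*} [Group K]

theorem cfg2_of_ks (h3 : ¬ Involves S3 K) (hK : IsSuzukiOrPSL2OddPowerThree K)
    (hs : ¬ Group.IsSolvable K) {Y : Subgroup K} (hY : Y ≠ ⊤) (ho : Odd Y.index)
    (hn : normalizer (Y : Set K) ≤ Y) {A : Subgroup K} (hA : IsElementaryAbelian 2 A)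
    (hAY : A ≤ Y) (h1 : A ≠ ⊥) : Cfg2 A Y := by
  rcases hK with hK | ⟨F, _, _, n, hF, ⟨e⟩⟩
  · obtain ⟨F, _, _, m, _, ⟨S⟩⟩ := exists_model hK
    exact sz_cfg2 S hY ho hn hA hAY h1
  · have hn1 : 1 ≤ n := by
      by_contra h
      obtain rfl : n = 0 := by omega
      have := isSolvable_PSL_three hF
      exact hs (Group.isSolvable_of_surjective (f := e.symm.toMonoidHom) e.symm.surjective)
    have hs' : Function.Surjective e.symm.toMonoidHom := e.symm.surjective
    have := psl_cfg2 hF hn1 (fun h => h3 (H57.involves_trans h (H57.involves_of_equiv e)))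
      (Y := Y.comap e.symm.toMonoidHom) (A := A.comap e.symm.toMonoidHom)
      (fun h => hY (by rw [← map_comap_eq_self_of_surjective hs' Y, h, map_top_of_surjective _ hs']))
      (by rwa [index_comap_of_surjective _ hs']) (H24.EA.comap e.symm.injective hA)
      (comap_mono hAY)
      (fun h => h1 (by rw [← map_comap_eq_self_of_surjective hs' A, h, Subgroup.map_bot]))
    have h4 := this.map e.symm.injective
    rwa [map_comap_eq_self_of_surjective hs'] at h4

theorem cfg2_comp [Finite X] [Finite K] (h3 : ¬ Involves S3 X) (hK : IsSuzukiOrPSL2OddPowerThree K)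
    (hZ : center K = ⊥) (hs : ¬ Group.IsSolvable K) {A M : Subgroup X}
    (hA : IsElementaryAbelian 2 A) (hAM : A ≤ M) {Y : Subgroup K} (hY : Y ≠ ⊤) (ho : Odd Y.index)
    (hn : normalizer (Y : Set K) ≤ Y) (φ : K →* X) (hφ : Function.Injective φ)
    (hM : M.comap φ = Y)
    (hc : ∀ a ∈ A, a ∈ normalizer (φ.range : Set X) ∨
      ∀ k, a * φ k * a⁻¹ ∈ centralizer (φ.range : Set X))
    (hnc : ¬ A ≤ centralizer (φ.range : Set X)) : Cfg2 A M := by
  induction hm : (normalizer (φ.range : Set X)).relIndex A using Nat.strong_induction_on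
    generalizing φ with
  | _ m ih =>
  subst hM
  have hinv : ∀ a ∈ A, a⁻¹ = a := fun a ha => by
    rw [inv_eq_iff_mul_eq_one, ← pow_two]; exact hA.2 a ha
  by_cases h1 : ∀ a ∈ A, a ∈ normalizer (φ.range : Set X) → a ∈ centralizer (φ.range : Set X)
  · obtain ⟨x, hx, hxY⟩ := exists_odd_not_mem hY ho
    obtain ⟨a₀, ha₀, ha₀c⟩ := SetLike.not_le_iff_exists.1 hnc
    have hE : IsElementaryAbelian (orderOf x) (closure {y | ∃ a ∈ A, y = a * φ x * a⁻¹}) := by
      refine H24.EA.closure ?_ ?_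
      · rintro _ ⟨a, ha, rfl⟩ _ ⟨b, hb, rfl⟩
        have h2 : φ x * ((a⁻¹ * b) * φ x * (a⁻¹ * b)⁻¹) = (a⁻¹ * b) * φ x * (a⁻¹ * b)⁻¹ * φ x := by
          have hab := mul_mem (inv_mem ha) hb
          rcases hc _ hab with h | h
          · rw [← h1 _ hab h _ ⟨x, rfl⟩, mul_inv_cancel_right]
          · exact h x _ ⟨x, rfl⟩
        calc _ = a * (φ x * ((a⁻¹ * b) * φ x * (a⁻¹ * b)⁻¹)) * a⁻¹ := by group
          _ = _ := by rw [h2]; group
      · rintro _ ⟨a, -, rfl⟩
        rw [conj_pow, ← map_pow, pow_orderOf_eq_one, map_one, mul_one, mul_inv_cancel]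
    set E := closure {y | ∃ a ∈ A, y = a * φ x * a⁻¹} with hEdef
    have hxE : φ x ∈ E := subset_closure ⟨1, one_mem _, by simp⟩
    refine cfg2_odd h3 hA hAM (F := E) ?_ ?_ (H24.le_normalizer_of_le_of_comm hE.1 le_rfl inf_le_right)
      fun h => ?_
    · by_contra h
      obtain ⟨y, hy, hy2⟩ := H1.exists_mem_orderOf_eq_prime Nat.prime_two
        (even_iff_two_dvd.1 (Nat.not_odd_iff_even.1 h))
      exact hx.not_two_dvd_nat (hy2 ▸ orderOf_dvd_of_pow_eq_one (hE.2 y hy))
    · intro a ha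
      refine H24.mem_normalizer_of_conj_mem fun y hy => ?_
      have : E ≤ E.comap (MulAut.conj a).toMonoidHom := by
        refine (closure_le _).2 ?_
        rintro _ ⟨b, hb, rfl⟩
        exact subset_closure ⟨a * b, mul_mem ha hb, by simp [mul_assoc]⟩
      exact this hy
    · have h2 := h (commutator_mem_commutator hxE ha₀)
      have h4 := (hc a₀ ha₀).resolve_left fun h => ha₀c (h1 a₀ ha₀ h)
      refine hxY (mem_of_mul_mem hn (h4 x⁻¹) ?_)
      simpa [commutatorElement_def, mul_assoc] using h2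
  push Not at h1
  obtain ⟨a₀, ha₀, ha₀n, ha₀c⟩ := h1
  by_cases h2 : A ≤ normalizer (φ.range : Set X)
  · exact cfg2_inner hZ φ hφ hA hAM (fun a ha => inner_of_ks h3 hK φ hφ (h2 ha) (hA.2 a ha)) hn hnc
      fun A' hA' h4 h5 => cfg2_of_ks
        (fun h => h3 (H57.involves_trans h (involves_of_injective φ hφ))) hK hs hY ho hn hA' h4 h5
  obtain ⟨a, ha, han⟩ := SetLike.not_le_iff_exists.1 h2
  have hac := (hc a ha).resolve_left han
  let ψ : K →* X := MonoidHom.mk' (fun k => φ k * (a * φ k * a⁻¹)) fun k l => by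
    have := hac k _ ⟨l, rfl⟩
    rw [map_mul]
    calc φ k * φ l * (a * (φ k * φ l) * a⁻¹)
        = φ k * (φ l * (a * φ k * a⁻¹)) * (a * φ l * a⁻¹) := by group
      _ = _ := by rw [this]; group
  have hψ : ∀ k, ψ k = φ k * (a * φ k * a⁻¹) := fun _ => rfl
  have hψi : Function.Injective ψ := by
    rw [injective_iff_map_eq_one]
    intro k hk
    rw [hψ, mul_eq_one_iff_eq_inv] at hk
    have h4 : k ∈ center K := by
      rw [mem_center_iff]
      intro l
      apply hφ
      rw [map_mul, map_mul]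
      exact (hk ▸ inv_mem (hac k) : φ k ∈ centralizer (φ.range : Set X)) _ ⟨l, rfl⟩
    rwa [hZ, mem_bot] at h4
  have hN : ∀ b ∈ A, b ∈ normalizer (φ.range : Set X) → ∀ k, ∃ l, b * φ k * b⁻¹ = φ l ∧
      b * ψ k * b⁻¹ = ψ l := by
    intro b hb hbn k
    obtain ⟨l, hl⟩ := H24.conj_mem_of_mem_normalizer hbn (⟨k, rfl⟩ : φ k ∈ φ.range)
    refine ⟨l, hl.symm, ?_⟩
    rw [hψ, hψ, hl]
    calc b * (φ k * (a * φ k * a⁻¹)) * b⁻¹
        = b * φ k * b⁻¹ * ((b * a) * φ k * (b * a)⁻¹) := by group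
      _ = _ := by rw [H24.EA.comm hA hb ha]; group
  have hN' : ∀ b ∈ A, b ∈ normalizer (φ.range : Set X) → b ∈ normalizer (ψ.range : Set X) := by
    intro b hb hbn
    refine H24.mem_normalizer_of_conj_mem ?_
    rintro _ ⟨k, rfl⟩
    obtain ⟨l, -, hl⟩ := hN b hb hbn k
    exact ⟨l, hl.symm⟩
  have haN : a ∈ normalizer (ψ.range : Set X) := by
    refine (centralizer_le_normalizer _) ?_
    rintro _ ⟨k, rfl⟩
    have e : a * (a * φ k * a⁻¹) = φ k * a := by
      rw [← mul_assoc, ← mul_assoc, ← pow_two, hA.2 a ha, one_mul, hinv a ha]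
    have e2 : ψ k = a * φ k * a⁻¹ * φ k := by rw [hψ, hac k _ ⟨k, rfl⟩]
    have e3 : a * φ k = (a * φ k * a⁻¹) * a := by group
    calc ψ k * a = a * φ k * a⁻¹ * (φ k * a) := by rw [e2, mul_assoc]
      _ = a * (φ k * (a * φ k * a⁻¹)) := by
          rw [← e, hinv a ha]
          calc a * φ k * a * (a * (a * φ k * a)) = a * φ k * (a * a) * (a * φ k * a) := by group
            _ = _ := by rw [← pow_two, hA.2 a ha]; group
      _ = a * ψ k := by rw [hψ]
  refine ih _ ?_ ψ hψi ?_ (fun b hb => ?_) (fun h => ha₀c ?_) rfl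
  · rw [← hm, ← inf_relIndex_right, ← inf_relIndex_right (normalizer (φ.range : Set X))]
    have h4 : normalizer (φ.range : Set X) ⊓ A < normalizer (ψ.range : Set X) ⊓ A :=
      lt_of_le_of_ne (fun b hb => ⟨hN' b hb.2 hb.1, hb.2⟩) fun h => han (h.ge ⟨haN, ha⟩).1
    have h5 := H1.card_lt_of_lt h4
    have h6 := H1.card_mul_relIndex_of_le (inf_le_right : normalizer (φ.range : Set X) ⊓ A ≤ A)
    have h7 := H1.card_mul_relIndex_of_le (inf_le_right : normalizer (ψ.range : Set X) ⊓ A ≤ A)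
    have h8 : 0 < (normalizer (ψ.range : Set X) ⊓ A).relIndex A :=
      Nat.pos_of_ne_zero index_ne_zero_of_finite
    by_contra h9
    push Not at h9
    nlinarith
  · ext k
    refine ⟨fun h => mem_of_mul_mem hn (hac k) h, fun h => ?_⟩
    have h' : φ k ∈ M := h
    show ψ k ∈ M
    rw [hψ]
    exact mul_mem h' (mul_mem (mul_mem (hAM ha) h') (inv_mem (hAM ha)))
  · rcases hc b hb with h | h
    · exact Or.inl (hN' b hb h)
    rcases hc _ (mul_mem hb ha) with h' | h'
    · left
      simpa using mul_mem (hN' _ (mul_mem hb ha) h') (inv_mem haN)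
    right
    have key : ∀ c ∈ A, (∀ k, c * φ k * c⁻¹ ∈ centralizer (φ.range : Set X)) →
        (∀ k, (c * a) * φ k * (c * a)⁻¹ ∈ centralizer (φ.range : Set X)) →
        ∀ k, c * φ k * c⁻¹ ∈ centralizer (ψ.range : Set X) := by
      rintro c hc h1 h2 k _ ⟨l, rfl⟩
      have e1 := h1 k _ ⟨l, rfl⟩
      have e2 := h2 k _ ⟨l, rfl⟩
      have e3 : c * φ k * c⁻¹ = a * ((c * a) * φ k * (c * a)⁻¹) * a⁻¹ := by
        rw [H24.EA.comm hA hc ha]
        calc c * φ k * c⁻¹ = (a * a) * c * φ k * c⁻¹ * (a * a)⁻¹ := by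
              rw [← pow_two, hA.2 a ha]; group
          _ = _ := by group
      have e4 : a * φ l * a⁻¹ * (c * φ k * c⁻¹) = c * φ k * c⁻¹ * (a * φ l * a⁻¹) := by
        rw [e3, conj_mul, conj_mul, e2]
      rw [hψ, mul_assoc, e4, ← mul_assoc, e1, mul_assoc]
    intro k
    have e : b * ψ k * b⁻¹ = (b * φ k * b⁻¹) * ((b * a) * φ k * (b * a)⁻¹) := by rw [hψ]; group
    rw [e]
    refine mul_mem (key b hb h h' k) (key _ (mul_mem hb ha) h' ?_ k)
    rwa [mul_assoc b, ← pow_two, hA.2 a ha, mul_one]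
  · rintro _ ⟨k, rfl⟩
    obtain ⟨l, h4, h5⟩ := hN a₀ ha₀ ha₀n k
    rw [← h ha₀ _ ⟨k, rfl⟩, mul_inv_cancel_right] at h5
    rw [← hψi h5, mul_inv_eq_iff_eq_mul] at h4
    exact h4.symm

end

section

variable {X : Type u} [Group X]

theorem cfg2_component [Finite X] (hX : Nice X) (hF : fittingSubgroup X = ⊥) {K A M : Subgroup X}
    (hK : IsComponent K) (hA : IsElementaryAbelian 2 A) (hAM : A ≤ M)
    (hnc : ¬ A ≤ centralizer (K : Set X)) (hY : ¬ K ≤ M) (ho : Odd (M.relIndex K))
    (hn : ∀ k ∈ K, k ∈ normalizer ((M ⊓ K : Subgroup X) : Set X) → k ∈ M) : Cfg2 A M := by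
  have hs := H23.IsComponent.isSimpleGroup_of_fitting_eq_bot hK hF
  refine cfg2_comp hX.s3 (ks_of_component hX hF hK) ?_
    (fun h => H23.IsComponent.not_le_of_isSolvable hK h le_rfl) hA hAM (Y := M.subgroupOf K)
    (fun h => hY (subgroupOf_eq_top.1 h)) ho (fun k hk => hn k k.2 ?_) K.subtype K.subtype_injective
    rfl (fun a _ => ?_) (by rwa [range_subtype])
  · refine (hs.eq_bot_or_eq_top_of_normal _ inferInstance).resolve_right fun h => ?_
    exact not_comm_of_component hK ⟨⟨fun a b => (mem_center_iff.1 (h ▸ mem_top b : b ∈ center K) a)⟩⟩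
  · refine H24.mem_normalizer_of_conj_mem fun x hx => ⟨?_, K.mul_mem (K.mul_mem k.2 hx.2) (K.inv_mem k.2)⟩
    exact H24.conj_mem_of_mem_normalizer hk (x := ⟨x, hx.2⟩) hx.1
  · rw [range_subtype]
    rcases H23.IsComponent.eq_or_commutator_eq_bot (H23.IsComponent.smul hK (MulAut.conj a)) hK with
      h | h
    · exact Or.inl (H1.mem_normalizer_iff_conj_smul_eq.2 h)
    · exact Or.inr fun k => commutator_eq_bot_iff_le_centralizer.1 h
        (smul_mem_pointwise_smul _ (MulAut.conj a) _ k.2)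

theorem cfg2_maximal [Finite X] (hX : Nice X) (S : Sylow 2 X) {M A : Subgroup X} (hM : IsCoatom M)
    (hSM : (S : Subgroup X) ≤ M) (hD : M.normalCore = ⊥) (hA : IsElementaryAbelian 2 A)
    (hAM : A ≤ M) (h1 : A ≠ ⊥) : Cfg2 A M := by
  have key : ∀ N E : Subgroup X, N ≤ M → M ≤ normalizer (N : Set X) → E ≤ normalizer (N : Set X) →
      ¬ E ≤ M → N = ⊥ := by
    intro N E h2 h3 h4 h5
    have : N.Normal := normalizer_eq_top_iff.1 (hM.2 _ (lt_of_le_of_ne h3 fun h => h5 (h ▸ h4)))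
    exact eq_bot_iff.2 (hD ▸ normal_le_normalCore.2 h2)
  have hnle : ∀ E : Subgroup X, E.Normal → E ≠ ⊥ → ¬ E ≤ M := fun E _ h2 h3 =>
    h2 (eq_bot_iff.2 (hD ▸ normal_le_normalCore.2 h3))
  by_cases hF : fittingSubgroup X = ⊥
  · obtain ⟨K, hK, hnc⟩ := exists_component hF h1
    have hL : ¬ layer X ≤ M := hnle _ inferInstance (H23.hasComponent_iff.1 ⟨K, hK⟩)
    refine cfg2_component hX hF hK hA hAM hnc (fun h => ?_)
      (odd_relIndex S hSM (H23.IsComponent.isSubnormal hK)) fun k hk hn => ?_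
    · have := key _ (layer X) (sSup_le fun K hK => hK.2)
        (H23.le_normalizer_sSup_components_le (H := M) le_normalizer) (fun g hg => ?_) hL
      · exact H23.IsComponent.ne_bot hK (eq_bot_iff.2 (this ▸ le_sSup ⟨hK, h⟩))
      · refine mem_normalizer_of_smul_le ?_
        rw [sSup_eq_iSup', conj_smul_iSup]
        refine iSup_le fun K' => ?_
        rw [conj_smul_eq_of_mem (H23.IsComponent.layer_le_normalizer K'.2.1 hg)]
        exact le_iSup (fun K : {K : Subgroup X | IsComponent K ∧ K ≤ M} => K.1) K'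
    · by_contra hk'
      have := key _ (zpowers k) (compPart_le M) (le_normalizer_compPart M)
        (zpowers_le_of_mem (mem_normalizer_compPart hK hk hn)) (fun h => hk' (h (mem_zpowers k)))
      exact sylow_inf_ne_bot hX hF S hK
        (eq_bot_iff.2 (this ▸ (inf_le_inf_right _ hSM).trans (le_compPart M hK)))
  · set E := fittingSubgroup X ⊓ centralizer (fittingSubgroup X : Set X) with hE
    have hE1 : E ≠ ⊥ := by
      rw [hE, ← H24.map_center_subtype, Ne, map_eq_bot_iff_of_injective _ (subtype_injective _)]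
      have : Nontrivial (fittingSubgroup X) := (nontrivial_iff_ne_bot _).2 hF
      exact Group.IsNilpotent.center_ne_bot _
    have hEc : IsMulCommutative E := H24.isMulCommutative_inf_centralizer _
    have hEM := hnle E inferInstance hE1
    have hEn := H24.le_normalizer_of_le_of_comm hEc le_rfl (inf_le_right : M ⊓ E ≤ E)
    have hME : M ⊓ E = ⊥ := key _ E inf_le_left
      ((le_inf le_normalizer le_normalizer_of_normal).trans inf_normalizer_le_normalizer_inf)
      hEn hEM
    have ho : Odd (Nat.card E) := by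
      have := odd_relIndex S hSM (K := E) (Normal.isSubnormal inferInstance)
      rwa [← inf_relIndex_right, hME, relIndex_bot_left] at this
    refine cfg2_odd hX.s3 hA hAM ho le_normalizer_of_normal hEn fun h => h1 ?_
    have h2 : A ≤ centralizer (E : Set X) := H24.le_centralizer_of_commutator_eq_bot'
      (eq_bot_iff.2 (hME ▸ le_inf h (commutator_le_left _ _)))
    have h3 := key (M ⊓ centralizer (E : Set X)) E inf_le_left
      ((le_inf le_normalizer le_normalizer_of_normal).trans inf_normalizer_le_normalizer_inf)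
      ((le_centralizer_iff.1 inf_le_right).trans (centralizer_le_normalizer _)) hEM
    exact eq_bot_iff.2 (h3 ▸ le_inf hAM h2)

end

variable {G : Type*} [Group G] [Finite G]

theorem exists_lift2 {Y : Type*} [Group Y] {π : G →* Y} (hπ : Function.Surjective π) (S : Sylow 2 G)
    {A : Subgroup G} (hAS : A ≤ S) {M : Subgroup Y} (hAM : A ≤ M.comap π) (h : Cfg2 (A.map π) M) :
    ∃ (T L : Subgroup G) (g : G), T ≤ S ∧ (S : Subgroup G) ⊓ π.ker ≤ T ∧
      L ≤ normalizer (T : Set G) ∧ Tw2 A (M.comap π) L T g (T.relIndex A ^ 2) := by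
  obtain ⟨B, Γ, h1, h2, h3, h3'⟩ := h
  set K := B.comap π with hK
  set T := (S : Subgroup G) ⊓ K with hT
  have hDK : π.ker ≤ K := ker_le_comap _ _
  have hb : ∀ x ∈ K, ∃ b ∈ T, π b = π x := fun x hx => by
    obtain ⟨b, hb, e⟩ := h1 hx
    exact ⟨b, ⟨hAS hb, show π b ∈ B from e ▸ hx⟩, e⟩
  have hTK : H68.SylowIn 2 T K := by
    refine H68.sylowIn_of_not_dvd_relIndex (S.isPGroup'.to_le inf_le_left) inf_le_right ?_
    rw [relIndex_eq_of_forall hDK fun x hx => ?_]
    · have := (sylowIn_inf S π.ker).not_dvd_relIndex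
      rwa [← inf_relIndex_right T, hT, inf_assoc, inf_eq_right.2 hDK]
    · obtain ⟨b, hb, e⟩ := hb x hx
      exact ⟨x * b⁻¹, by simp [e], by simpa using hb⟩
  have hΓK : Γ.comap π ≤ normalizer (K : Set G) :=
    (comap_mono (h2.trans (centralizer_le_normalizer _))).trans (le_normalizer_comap π)
  have hAΓ : A ≤ Γ.comap π := map_le_iff_le_comap.1 h3.1
  have hmap : (Γ.comap π ⊓ normalizer (T : Set G)).map π = Γ := by
    refine le_antisymm (map_le_iff_le_comap.2 inf_le_left) fun y hy => ?_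
    obtain ⟨x, rfl⟩ := hπ y
    obtain ⟨k, hk, z, hz, rfl⟩ := hTK.frattini (hΓK hy)
    obtain ⟨b, hb, e⟩ := hb k hk
    have e' : π (b * z) = π (k * z) := by rw [map_mul, map_mul, e]
    exact ⟨b * z, ⟨show π (b * z) ∈ Γ from e' ▸ hy, mul_mem (le_normalizer hb) hz⟩, e'⟩
  rw [← hmap, ← relIndex_comap, ← hK] at h3 h3'
  have hAΓ' := le_inf hAΓ (H2.le_normalizer_inf (hAS.trans le_normalizer) (hAΓ.trans hΓK))
  have h4 := Pre.of_map π hAΓ' h3
  have h4' := (Ex.of_map π h3').congr (B' := T) hAΓ' (fun _ _ => Iff.rfl) fun z hz h => ⟨hAS hz, h⟩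
  have h5 : K.relIndex A = T.relIndex A := by
    rw [← inf_relIndex_right T, hT, inf_comm (S : Subgroup G), inf_assoc, inf_eq_right.2 hAS,
      inf_relIndex_right]
  rw [h5] at h4 h4'
  obtain ⟨L, g, h6, h7⟩ := exists_tw2 h4 h4' (one_le_sq_relIndex _ _) hAM
  exact ⟨T, L, g, inf_le_left, inf_le_inf_left _ hDK, h6.trans inf_le_right, h7⟩

theorem exists_tw2_of_coatom {X : Type u} [Group X] {G : Type u} [Group G] [Finite G] (f : G →* X)
    (hX : Nice X) (S : Sylow 2 G) {M : Subgroup G} (hM : IsCoatom M) (hSM : (S : Subgroup G) ≤ M)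
    (hf : f.ker ≤ M) {A : Subgroup G} (hAS : A ≤ S) (hA : ⁅A, A⁆ ≤ M.normalCore) (hA2 : ∀ a ∈ A, a ^ 2 ∈ M.normalCore)
    (hAD : ¬ A ≤ M.normalCore) :
    ∃ (T L : Subgroup G) (g : G), T ≤ S ∧ (S : Subgroup G) ⊓ M.normalCore ≤ T ∧
      L ≤ normalizer (T : Set G) ∧ Tw2 A M L T g (T.relIndex A ^ 2) := by
  let π := QuotientGroup.mk' M.normalCore
  have hπ : Function.Surjective π := QuotientGroup.mk'_surjective _
  have hk : π.ker = M.normalCore := QuotientGroup.ker_mk' _
  have hc : (M.map π).comap π = M := comap_map_eq_self (hk.le.trans (normalCore_le M))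
  have hAe : IsElementaryAbelian 2 (A.map π) := by
    rw [H24.EA.iff_mem]
    constructor
    · rintro _ ⟨a, ha, rfl⟩ _ ⟨b, hb, rfl⟩
      rw [← commutatorElement_eq_one_iff_mul_comm, ← map_commutatorElement, ← MonoidHom.mem_ker, hk]
      exact hA (commutator_mem_commutator ha hb)
    · rintro _ ⟨a, ha, rfl⟩
      rw [← map_pow, ← MonoidHom.mem_ker, hk]
      exact hA2 a ha
  have h1 := cfg2_maximal
    (hX.of_involves (involves_of_ker_le f π hπ ((normal_le_normalCore.2 hf).trans hk.ge)))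
    (S.mapSurjective hπ) (M := M.map π) (A := A.map π) ⟨fun h => hM.1 (by rw [← hc, h, comap_top]),
      fun K hK => ?_⟩ (map_mono hSM) ?_ hAe (map_mono (hAS.trans hSM))
      fun h => hAD (((Subgroup.map_eq_bot_iff _).1 h).trans hk.le)
  · have h2 := exists_lift2 hπ S hAS (hc.symm ▸ hAS.trans hSM) h1
    rwa [hc, hk] at h2
  · rw [← map_comap_eq_self_of_surjective hπ K, hM.2 (K.comap π)
      (hc.ge.trans_lt ((comap_lt_comap_of_surjective hπ).2 hK)), map_top_of_surjective _ hπ]
  · rw [← map_comap_eq_self_of_surjective hπ (M.map π).normalCore, Subgroup.map_eq_bot_iff, hk]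
    exact normal_le_normalCore.2 ((comap_mono (normalCore_le _)).trans hc.le)

end H25.St
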